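import Mathlib
import Groth.Prelude.Def_GrLC

/-!
# ℤ-graded rings with a homogeneous unit of least positive degree: the dual-number character (helper6)
-/

set_option autoImplicit false
set_option linter.unusedSectionVars false
set_option linter.unusedVariables false
set_option linter.unusedSimpArgs false
set_option linter.style.haveILetI false
set_option maxHeartbeats 400000

namespace Groth.Agent.Lib.Helper6.GrUnit

universe u

open DirectSum IsLocalRing TrivSqZeroExt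

section Basic

variable {R : Type u} [CommRing R] (𝒜 : ℤ → AddSubgroup R) [GradedRing 𝒜]

/-- degree zero projection -/
noncomputable def p0 : R →+ GrLC.deg0 𝒜 where
  toFun x := ⟨(decompose 𝒜 x 0 : R), (decompose 𝒜 x 0).2⟩
  map_zero' := by
    apply Subtype.ext
    simp [decompose_zero]
  map_add' x y := by
    apply Subtype.ext
    show ((decompose 𝒜 (x + y) 0 : 𝒜 0) : R) =
      ((decompose 𝒜 x 0 : 𝒜 0) : R) + ((decompose 𝒜 y 0 : 𝒜 0) : R)
    rw [decompose_add, DirectSum.add_apply]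
    rfl

lemma p0_of_mem_zero {z : R} (hz : z ∈ 𝒜 0) : p0 𝒜 z = ⟨z, hz⟩ :=
  Subtype.ext (decompose_of_mem_same 𝒜 hz)

lemma p0_of_mem_ne {z : R} {d : ℤ} (hd : d ≠ 0) (hz : z ∈ 𝒜 d) : p0 𝒜 z = 0 :=
  Subtype.ext (decompose_of_mem_ne 𝒜 hz hd)

lemma inv_mem (n : ℤ) (tu : Rˣ) (ht : (tu : R) ∈ 𝒜 n) : ((tu⁻¹ : Rˣ) : R) ∈ 𝒜 (-n) := by
  set s : R := ((tu⁻¹ : Rˣ) : R) with hs
  have h := DirectSum.coe_decompose_mul_add_of_left_mem 𝒜 (i := n) (j := -n) ht (b := s)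
  rw [add_neg_cancel, hs, Units.mul_inv,
    decompose_of_mem_same 𝒜 (SetLike.GradedOne.one_mem : (1 : R) ∈ 𝒜 0)] at h
  have h2 : s = (decompose 𝒜 s (-n) : R) := by
    calc s = s * 1 := (mul_one s).symm
      _ = s * ((tu : R) * (decompose 𝒜 s (-n) : R)) := by rw [← h]
      _ = (decompose 𝒜 s (-n) : R) := by rw [← mul_assoc, hs, Units.inv_mul, one_mul]
  rw [h2]
  exact (decompose 𝒜 s (-n)).2

lemma zpow_mem {M : ℤ} (tu : Rˣ) (ht : (tu : R) ∈ 𝒜 M) (j : ℤ) :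
    ((tu ^ j : Rˣ) : R) ∈ 𝒜 (j * M) := by
  have hpos : ∀ (u : Rˣ) (M : ℤ), (u : R) ∈ 𝒜 M → ∀ n : ℕ,
      ((u ^ n : Rˣ) : R) ∈ 𝒜 ((n : ℤ) * M) := by
    intro u M hu n
    rw [Units.val_pow_eq_pow_val, ← nsmul_eq_mul]
    exact SetLike.pow_mem_graded n hu
  obtain ⟨n, rfl | rfl⟩ := j.eq_nat_or_neg
  · rw [zpow_natCast]; exact hpos tu M ht n
  · rw [zpow_neg, zpow_natCast, ← inv_pow]
    have := hpos tu⁻¹ (-M) (inv_mem 𝒜 M tu ht) n
    rwa [mul_neg, ← neg_mul] at this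

end Basic

section Dual

variable (k : Type u) [CommRing k]

/-- `1 + a ε` -/
def E (a : ℤ) : DualNumber k := inl 1 + inr (a : k)

lemma E_add (a b : ℤ) : E k (a + b) = E k a * E k b := by
  ext
  · simp [E]
  · simp [E, add_comm]

lemma E_zero : E k 0 = 1 := by
  ext
  · simp [E]
  · simp [E]

lemma E_one : E k 1 = inl 1 + inr 1 := by simp [E]

end Dual

section Main

variable {R : Type u} [CommRing R] (𝒜 : ℤ → AddSubgroup R) [GradedRing 𝒜]
  [IsLocalRing (GrLC.deg0 𝒜)]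
  (N : ℕ) (hN : 0 < N) (tu : Rˣ) (ht : (tu : R) ∈ 𝒜 (N : ℤ))
  (hmin : ∀ (n : ℤ), 0 < n → n < (N : ℤ) → ∀ s ∈ 𝒜 n, ¬ IsUnit s)

/-- integer powers of the unit -/
def tz (j : ℤ) : R := ((tu ^ j : Rˣ) : R)

lemma tz_add (a b : ℤ) : tz tu (a + b) = tz tu a * tz tu b := by simp [tz, zpow_add]

lemma tz_zero : tz tu 0 = 1 := by simp [tz]

lemma tz_one : tz tu 1 = tu := by simp [tz]

lemma tz_neg_mul (a : ℤ) : tz tu (-a) * tz tu a = 1 := by
  rw [← tz_add, neg_add_cancel, tz_zero]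

lemma tz_isUnit (j : ℤ) : IsUnit (tz tu j) := (tu ^ j).isUnit

include ht in
lemma tz_mem (j : ℤ) : tz tu j ∈ 𝒜 (j * N) := zpow_mem 𝒜 tu ht j

include ht in
lemma mul_tz_mem {i : ℤ} {x : R} (hx : x ∈ 𝒜 i) : x * tz tu (-(i / N)) ∈ 𝒜 (i % N) := by
  have h := SetLike.mul_mem_graded hx (tz_mem 𝒜 N tu ht (-(i / N)))
  have e : i + -(i / N) * N = i % N := by rw [Int.emod_def]; ring
  rwa [e] at h

include hN ht hmin in
lemma dvd_of_isUnit {i : ℤ} {x : R} (hx : x ∈ 𝒜 i) (hu : IsUnit x) : (N : ℤ) ∣ i := by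
  have hN' : (0 : ℤ) < N := by exact_mod_cast hN
  have h1 := mul_tz_mem 𝒜 N tu ht hx
  have h2 : IsUnit (x * tz tu (-(i / N))) := hu.mul (tz_isUnit tu _)
  by_contra hnd
  have h3 : 0 < i % N := by
    have := Int.emod_nonneg i hN'.ne'
    rcases this.lt_or_eq with h | h
    · exact h
    · exact absurd (Int.dvd_of_emod_eq_zero h.symm) hnd
  exact hmin (i % N) h3 (Int.emod_lt_of_pos i hN') _ h1 h2

include hN ht hmin in
lemma residue_eq_zero_of_not_dvd {i : ℤ} {x z : R} (hx : x ∈ 𝒜 i) (hi : ¬ (N : ℤ) ∣ i)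
    (h0 : x * z ∈ 𝒜 0) :
    residue (GrLC.deg0 𝒜) ⟨x * z, h0⟩ = 0 := by
  rw [residue_eq_zero_iff, mem_maximalIdeal, mem_nonunits_iff]
  intro hunit
  obtain ⟨v, hv⟩ := hunit.exists_right_inv
  have hv' : x * z * (v : R) = 1 := congrArg Subtype.val hv
  apply hi
  refine dvd_of_isUnit 𝒜 N hN tu ht hmin hx ?_
  exact IsUnit.of_mul_eq_one (z * v) (by rw [← mul_assoc]; exact hv')

/-- the component maps -/
noncomputable def fR (q : ℤ) : R →+ DualNumber (ResidueField (GrLC.deg0 𝒜)) where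
  toFun x := inl (residue _ (p0 𝒜 (x * tz tu (-q)))) * E _ q
  map_zero' := by simp
  map_add' x y := by simp [add_mul]

lemma fR_apply (q : ℤ) (x : R) :
    fR 𝒜 tu q x = inl (residue _ (p0 𝒜 (x * tz tu (-q)))) * E _ q := rfl

include hN ht hmin in
lemma fR_mul {i j : ℤ} {x y : R} (hx : x ∈ 𝒜 i) (hy : y ∈ 𝒜 j) :
    fR 𝒜 tu ((i + j) / N) (x * y) = fR 𝒜 tu (i / N) x * fR 𝒜 tu (j / N) y := by
  have hN' : (0 : ℤ) < N := by exact_mod_cast hN
  have hx' := mul_tz_mem 𝒜 N tu ht hx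
  have hy' := mul_tz_mem 𝒜 N tu ht hy
  have hxy' := mul_tz_mem 𝒜 N tu ht (SetLike.mul_mem_graded hx hy)
  rw [fR_apply, fR_apply, fR_apply]
  by_cases hcase : i % N = 0 ∧ j % N = 0
  · obtain ⟨hi, hj⟩ := hcase
    have hdiv : (i + j) / N = i / N + j / N :=
      Int.add_ediv_of_dvd_left (Int.dvd_of_emod_eq_zero hi)
    rw [hi] at hx'
    rw [hj] at hy'
    have hprod : x * y * tz tu (-((i + j) / N)) =
        (x * tz tu (-(i / N))) * (y * tz tu (-(j / N))) := by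
      rw [hdiv, neg_add, tz_add]; ring
    have hmem : (x * tz tu (-(i / N))) * (y * tz tu (-(j / N))) ∈ 𝒜 0 := by
      have := SetLike.mul_mem_graded hx' hy'
      rwa [add_zero] at this
    rw [hprod, p0_of_mem_zero 𝒜 hx', p0_of_mem_zero 𝒜 hy',
      p0_of_mem_zero 𝒜 hmem, hdiv, E_add]
    have hm : (⟨(x * tz tu (-(i / N))) * (y * tz tu (-(j / N))), hmem⟩ : GrLC.deg0 𝒜) =
        ⟨x * tz tu (-(i / N)), hx'⟩ * ⟨y * tz tu (-(j / N)), hy'⟩ := rfl
    rw [hm, map_mul, inl_mul]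
    ring
  · have hrhs : inl (residue _ (p0 𝒜 (x * tz tu (-(i / N))))) * E _ (i / N) *
        (inl (residue _ (p0 𝒜 (y * tz tu (-(j / N))))) * E _ (j / N)) = 0 := by
      by_cases hi : i % N = 0
      · have hj : j % N ≠ 0 := fun hj => hcase ⟨hi, hj⟩
        rw [p0_of_mem_ne 𝒜 hj hy', map_zero, inl_zero, zero_mul, mul_zero]
      · rw [p0_of_mem_ne 𝒜 hi hx', map_zero, inl_zero, zero_mul, zero_mul]
    rw [hrhs]
    by_cases hij : (i + j) % N = 0
    · rw [hij] at hxy'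
      rw [p0_of_mem_zero 𝒜 hxy']
      have hres : residue (GrLC.deg0 𝒜) ⟨x * y * tz tu (-((i + j) / N)), hxy'⟩ = 0 := by
        by_cases hi : i % N = 0
        · have hj : ¬ (N : ℤ) ∣ j := fun hj => hcase ⟨hi, Int.emod_eq_zero_of_dvd hj⟩
          have h0 : y * (x * tz tu (-((i + j) / N))) ∈ 𝒜 0 := by
            have : y * (x * tz tu (-((i + j) / N))) = x * y * tz tu (-((i + j) / N)) := by ring
            rw [this]; exact hxy'
          have := residue_eq_zero_of_not_dvd 𝒜 N hN tu ht hmin hy hj h0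
          convert this using 3
          ring_nf
        · have hi' : ¬ (N : ℤ) ∣ i := fun h => hi (Int.emod_eq_zero_of_dvd h)
          have h0 : x * (y * tz tu (-((i + j) / N))) ∈ 𝒜 0 := by
            rw [← mul_assoc]; exact hxy'
          have := residue_eq_zero_of_not_dvd 𝒜 N hN tu ht hmin hx hi' h0
          convert this using 3
          ring_nf
      rw [hres, inl_zero, zero_mul]
    · rw [p0_of_mem_ne 𝒜 hij hxy', map_zero, inl_zero, zero_mul]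

/-- the family of component maps -/
noncomputable def F (i : ℤ) : ↥(𝒜 i) →+ DualNumber (ResidueField (GrLC.deg0 𝒜)) :=
  (fR 𝒜 tu (i / N)).comp (𝒜 i).subtype

lemma F_apply (i : ℤ) (a : ↥(𝒜 i)) : F 𝒜 N tu i a = fR 𝒜 tu (i / N) (a : R) := rfl

lemma F_one : F 𝒜 N tu 0 (GradedMonoid.GOne.one (A := fun i : ℤ => ↥(𝒜 i))) = 1 := by
  rw [F_apply, SetLike.coe_gOne, Int.zero_ediv, fR_apply, neg_zero, tz_zero, mul_one,
    p0_of_mem_zero 𝒜 (SetLike.GradedOne.one_mem : (1 : R) ∈ 𝒜 0), E_zero, mul_one]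
  have : (⟨1, (SetLike.GradedOne.one_mem : (1 : R) ∈ 𝒜 0)⟩ : GrLC.deg0 𝒜) = 1 := rfl
  rw [this, map_one, inl_one]

include hN ht hmin in
lemma F_mul {i j : ℤ} (ai : ↥(𝒜 i)) (aj : ↥(𝒜 j)) :
    F 𝒜 N tu (i + j) (GradedMonoid.GMul.mul (A := fun i : ℤ => ↥(𝒜 i)) ai aj) =
      F 𝒜 N tu i ai * F 𝒜 N tu j aj := by
  rw [F_apply, F_apply, F_apply, SetLike.coe_gMul]
  exact fR_mul 𝒜 N hN tu ht hmin ai.2 aj.2

include hN ht hmin in
/-- the dual-number valued character -/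
noncomputable def Phi : R →+* DualNumber (ResidueField (GrLC.deg0 𝒜)) :=
  (DirectSum.toSemiring (F 𝒜 N tu) (F_one 𝒜 N tu)
    (fun ai aj => F_mul 𝒜 N hN tu ht hmin ai aj)).comp
  (DirectSum.decomposeRingEquiv 𝒜).toRingHom

lemma Phi_of_mem {i : ℤ} {x : R} (hx : x ∈ 𝒜 i) :
    Phi 𝒜 N hN tu ht hmin x = fR 𝒜 tu (i / N) x := by
  unfold Phi
  rw [RingHom.comp_apply]
  show DirectSum.toSemiring _ _ _ (decompose 𝒜 x) = _
  rw [decompose_of_mem 𝒜 hx, DirectSum.toSemiring_of]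
  rfl

end Main

end Groth.Agent.Lib.Helper6.GrUnit
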