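import Mathlib
import Groth.Agent.Lib.Helper6.GrUnit.GUa
import Groth.Agent.Lib.Helper8.RegularLocal

/-!
# ℤ-graded regular rings with a homogeneous unit of least positive degree: `R/(t-1)` is regular local
(helper6)
-/

set_option autoImplicit false
set_option linter.unusedSectionVars false
set_option linter.unusedVariables false
set_option linter.unusedSimpArgs false
set_option linter.style.haveILetI false
set_option maxHeartbeats 400000

namespace Groth.Agent.Lib.Helper6.GrUnit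

universe u

open DirectSum IsLocalRing TrivSqZeroExt

lemma dual_mul_eq_zero {k : Type u} [CommRing k] (a b : DualNumber k) (ha : a.fst = 0)
    (hb : b.fst = 0) : a * b = 0 := by
  ext
  · simp [ha]
  · simp [ha, hb]

section Main

variable {R : Type u} [CommRing R] (𝒜 : ℤ → AddSubgroup R) [GradedRing 𝒜]
  [IsLocalRing (GrLC.deg0 𝒜)]
  (N : ℕ) (hN : 0 < N) (tu : Rˣ) (ht : (tu : R) ∈ 𝒜 (N : ℤ))
  (hmin : ∀ (n : ℤ), 0 < n → n < (N : ℤ) → ∀ s ∈ 𝒜 n, ¬ IsUnit s)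

/-- the residue character -/
noncomputable def Phi0 : R →+* ResidueField (GrLC.deg0 𝒜) :=
  (TrivSqZeroExt.fstHom (ResidueField (GrLC.deg0 𝒜)) (ResidueField (GrLC.deg0 𝒜))
    (ResidueField (GrLC.deg0 𝒜))).toRingHom.comp (Phi 𝒜 N hN tu ht hmin)

lemma Phi0_apply (x : R) : Phi0 𝒜 N hN tu ht hmin x = (Phi 𝒜 N hN tu ht hmin x).fst := rfl

lemma Phi0_of_mem {i : ℤ} {x : R} (hx : x ∈ 𝒜 i) :
    Phi0 𝒜 N hN tu ht hmin x = residue _ (p0 𝒜 (x * tz tu (-(i / N)))) := by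
  rw [Phi0_apply, Phi_of_mem 𝒜 N hN tu ht hmin hx, fR_apply]
  simp [E]

lemma Phi_deg0 (a : GrLC.deg0 𝒜) :
    Phi 𝒜 N hN tu ht hmin (a : R) = inl (residue _ a) := by
  have ha : (a : R) ∈ 𝒜 0 := a.2
  rw [Phi_of_mem 𝒜 N hN tu ht hmin ha, fR_apply, Int.zero_ediv, neg_zero, tz_zero, mul_one,
    p0_of_mem_zero 𝒜 ha, E_zero, mul_one]

lemma Phi0_deg0 (a : GrLC.deg0 𝒜) : Phi0 𝒜 N hN tu ht hmin (a : R) = residue _ a := by
  rw [Phi0_apply, Phi_deg0, fst_inl]

lemma Phi0_surjective : Function.Surjective (Phi0 𝒜 N hN tu ht hmin) := by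
  intro c
  obtain ⟨a, rfl⟩ := residue_surjective c
  exact ⟨(a : R), Phi0_deg0 𝒜 N hN tu ht hmin a⟩

lemma Phi_t : Phi 𝒜 N hN tu ht hmin (tu : R) = inl 1 + inr 1 := by
  have hN' : ((N : ℤ)) ≠ 0 := by exact_mod_cast hN.ne'
  rw [Phi_of_mem 𝒜 N hN tu ht hmin ht, fR_apply, Int.ediv_self hN']
  have h1 : (tu : R) * tz tu (-1) = 1 := by
    have := tz_neg_mul tu 1
    rw [tz_one] at this
    rw [mul_comm]; exact this
  rw [h1, p0_of_mem_zero 𝒜 (SetLike.GradedOne.one_mem : (1 : R) ∈ 𝒜 0), E_one]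
  have : (⟨1, (SetLike.GradedOne.one_mem : (1 : R) ∈ 𝒜 0)⟩ : GrLC.deg0 𝒜) = 1 := rfl
  rw [this, map_one, inl_one, one_mul]

lemma Phi_t_sub_one : Phi 𝒜 N hN tu ht hmin ((tu : R) - 1) = inr 1 := by
  rw [map_sub, Phi_t, map_one, ← inl_one, add_sub_cancel_left]

/-- the maximal ideal -/
noncomputable def NN : Ideal R := RingHom.ker (Phi0 𝒜 N hN tu ht hmin)

instance NN_isMaximal : (NN 𝒜 N hN tu ht hmin).IsMaximal :=
  RingHom.ker_isMaximal_of_surjective _ (Phi0_surjective 𝒜 N hN tu ht hmin)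

lemma t_sub_one_mem_NN : (tu : R) - 1 ∈ NN 𝒜 N hN tu ht hmin := by
  show Phi0 𝒜 N hN tu ht hmin ((tu : R) - 1) = 0
  rw [Phi0_apply, Phi_t_sub_one, fst_inr]

lemma mk_tz (j : ℤ) : Ideal.Quotient.mk (Ideal.span {(tu : R) - 1}) (tz tu j) = 1 := by
  have h1 : Units.map (Ideal.Quotient.mk (Ideal.span {(tu : R) - 1})).toMonoidHom tu = 1 := by
    apply Units.ext
    show Ideal.Quotient.mk (Ideal.span {(tu : R) - 1}) (tu : R) = 1
    rw [← sub_eq_zero, ← map_one (Ideal.Quotient.mk (Ideal.span {(tu : R) - 1})), ← map_sub,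
      Ideal.Quotient.eq_zero_iff_mem]
    exact Ideal.mem_span_singleton_self _
  have h2 : Units.map (Ideal.Quotient.mk (Ideal.span {(tu : R) - 1})).toMonoidHom (tu ^ j) = 1 := by
    rw [map_zpow, h1, one_zpow]
  exact congrArg Units.val h2

/-- the structure map `R₀ → C` -/
noncomputable def f0 : GrLC.deg0 𝒜 →+* R ⧸ Ideal.span {(tu : R) - 1} :=
  (Ideal.Quotient.mk (Ideal.span {(tu : R) - 1})).comp (GrLC.deg0 𝒜).subtype

lemma f0_apply (a : GrLC.deg0 𝒜) :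
    f0 𝒜 tu a = Ideal.Quotient.mk (Ideal.span {(tu : R) - 1}) (a : R) := rfl

include ht in
lemma pow_mul_tz_mem {i : ℤ} {x : R} (hx : x ∈ 𝒜 i) : x ^ N * tz tu (-i) ∈ 𝒜 0 := by
  have h1 : x ^ N ∈ 𝒜 (N • i) := SetLike.pow_mem_graded N hx
  have h2 := SetLike.mul_mem_graded h1 (tz_mem 𝒜 N tu ht (-i))
  have e : N • i + -i * (N : ℤ) = 0 := by rw [nsmul_eq_mul]; ring
  rwa [e] at h2

include ht in
lemma mk_pow_eq {i : ℤ} {x : R} (hx : x ∈ 𝒜 i) :
    (Ideal.Quotient.mk (Ideal.span {(tu : R) - 1}) x) ^ N =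
      f0 𝒜 tu ⟨x ^ N * tz tu (-i), pow_mul_tz_mem 𝒜 N tu ht hx⟩ := by
  rw [f0_apply, map_mul, mk_tz, mul_one, map_pow]

include hN ht in
lemma f0_isIntegral : (f0 𝒜 tu).IsIntegral := by
  letI : Algebra (GrLC.deg0 𝒜) (R ⧸ Ideal.span {(tu : R) - 1}) := (f0 𝒜 tu).toAlgebra
  intro c
  show IsIntegral (GrLC.deg0 𝒜) c
  obtain ⟨r, rfl⟩ := Ideal.Quotient.mk_surjective c
  induction r using DirectSum.Decomposition.inductionOn 𝒜 with
  | zero => rw [map_zero]; exact isIntegral_zero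
  | @homogeneous i m =>
    refine IsIntegral.of_pow hN ?_
    rw [mk_pow_eq 𝒜 N tu ht m.2]
    exact isIntegral_algebraMap
  | add m m' hm hm' => rw [map_add]; exact hm.add hm'

section MaxIdeal

variable (P : Ideal (R ⧸ Ideal.span {(tu : R) - 1})) [hP : P.IsMaximal]

include hN ht in
lemma comap_f0_eq : P.comap (f0 𝒜 tu) = maximalIdeal (GrLC.deg0 𝒜) := by
  haveI := Ideal.isMaximal_comap_of_isIntegral_of_isMaximal' (f0 𝒜 tu)
    (f0_isIntegral 𝒜 N hN tu ht) P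
  exact IsLocalRing.eq_maximalIdeal this

include hN ht hmin in
lemma mk_mem_of_not_dvd {i : ℤ} {x : R} (hx : x ∈ 𝒜 i) (hi : ¬ (N : ℤ) ∣ i) :
    Ideal.Quotient.mk (Ideal.span {(tu : R) - 1}) x ∈ P := by
  apply hP.isPrime.mem_of_pow_mem N
  rw [mk_pow_eq 𝒜 N tu ht hx]
  have hmem : (⟨x ^ N * tz tu (-i), pow_mul_tz_mem 𝒜 N tu ht hx⟩ : GrLC.deg0 𝒜) ∈
      maximalIdeal (GrLC.deg0 𝒜) := by
    rw [← residue_eq_zero_iff]
    obtain ⟨n, rfl⟩ : ∃ n, N = n + 1 := ⟨N - 1, by omega⟩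
    have h0 : x * (x ^ n * tz tu (-i)) ∈ 𝒜 0 := by
      have := pow_mul_tz_mem 𝒜 (n + 1) tu ht hx
      rwa [pow_succ', mul_assoc] at this
    have := residue_eq_zero_of_not_dvd 𝒜 (n + 1) hN tu ht hmin hx hi h0
    convert this using 3
    rw [pow_succ', mul_assoc]
  rw [← comap_f0_eq 𝒜 N hN tu ht P] at hmem
  exact hmem

include hN ht hmin in
lemma exists_deg0_approx (r : R) : ∃ T : GrLC.deg0 𝒜,
    Ideal.Quotient.mk (Ideal.span {(tu : R) - 1}) r - f0 𝒜 tu T ∈ P ∧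
      Phi0 𝒜 N hN tu ht hmin r = residue _ T := by
  induction r using DirectSum.Decomposition.inductionOn 𝒜 with
  | zero => exact ⟨0, by simp, by simp⟩
  | @homogeneous i m =>
    by_cases hi : (N : ℤ) ∣ i
    · have hmem := mul_tz_mem 𝒜 N tu ht m.2
      rw [Int.emod_eq_zero_of_dvd hi] at hmem
      refine ⟨⟨(m : R) * tz tu (-(i / N)), hmem⟩, ?_, ?_⟩
      · rw [f0_apply, map_mul, mk_tz, mul_one, sub_self]
        exact P.zero_mem
      · rw [Phi0_of_mem 𝒜 N hN tu ht hmin m.2, p0_of_mem_zero 𝒜 hmem]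
    · refine ⟨0, ?_, ?_⟩
      · rw [map_zero, sub_zero]
        exact mk_mem_of_not_dvd 𝒜 N hN tu ht hmin P m.2 hi
      · have hmem := mul_tz_mem 𝒜 N tu ht m.2
        have hne : i % (N : ℤ) ≠ 0 := fun h => hi (Int.dvd_of_emod_eq_zero h)
        rw [Phi0_of_mem 𝒜 N hN tu ht hmin m.2, p0_of_mem_ne 𝒜 hne hmem]
  | add m m' hm hm' =>
    obtain ⟨T, hT1, hT2⟩ := hm
    obtain ⟨T', hT1', hT2'⟩ := hm'
    refine ⟨T + T', ?_, ?_⟩
    · have : Ideal.Quotient.mk (Ideal.span {(tu : R) - 1}) (m + m') - f0 𝒜 tu (T + T') =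
          (Ideal.Quotient.mk (Ideal.span {(tu : R) - 1}) m - f0 𝒜 tu T) +
          (Ideal.Quotient.mk (Ideal.span {(tu : R) - 1}) m' - f0 𝒜 tu T') := by
        rw [map_add, map_add]; ring
      rw [this]
      exact P.add_mem hT1 hT1'
    · rw [map_add, map_add, hT2, hT2']

include hN ht hmin in
lemma Phi0_eq_zero_of_mk_mem (r : R)
    (hr : Ideal.Quotient.mk (Ideal.span {(tu : R) - 1}) r ∈ P) :
    Phi0 𝒜 N hN tu ht hmin r = 0 := by
  obtain ⟨T, hT1, hT2⟩ := exists_deg0_approx 𝒜 N hN tu ht hmin P r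
  have hT : f0 𝒜 tu T ∈ P := by
    have := P.sub_mem hr hT1
    rwa [sub_sub_cancel] at this
  have hT' : T ∈ P.comap (f0 𝒜 tu) := hT
  rw [comap_f0_eq 𝒜 N hN tu ht P, ← residue_eq_zero_iff] at hT'
  rw [hT2, hT']

end MaxIdeal

include hN ht hmin in
lemma isUnit_mk_of_Phi0_ne_zero (r : R) (hr : Phi0 𝒜 N hN tu ht hmin r ≠ 0) :
    IsUnit (Ideal.Quotient.mk (Ideal.span {(tu : R) - 1}) r) := by
  by_contra hnu
  obtain ⟨P, hP, hmem⟩ := exists_max_ideal_of_mem_nonunits hnu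
  exact hr (Phi0_eq_zero_of_mk_mem 𝒜 N hN tu ht hmin P r hmem)

include hN ht hmin in
lemma isUnit_mk_of_notMem (y : R) (hy : y ∉ NN 𝒜 N hN tu ht hmin) :
    IsUnit (Ideal.Quotient.mk (Ideal.span {(tu : R) - 1}) y) :=
  isUnit_mk_of_Phi0_ne_zero 𝒜 N hN tu ht hmin y hy

include hN ht hmin in
lemma isUnit_Phi_of_notMem (y : R) (hy : y ∉ NN 𝒜 N hN tu ht hmin) :
    IsUnit (Phi 𝒜 N hN tu ht hmin y) := by
  rw [TrivSqZeroExt.isUnit_iff_isUnit_fst]
  exact IsUnit.mk0 _ hy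

/-- **Main theorem** -/
theorem isRegularLocalRing_quotient
    (hreg : IsRegularLocalRing (Localization.AtPrime (NN 𝒜 N hN tu ht hmin))) :
    IsRegularLocalRing (R ⧸ Ideal.span {(tu : R) - 1}) := by
  set 𝔑 := NN 𝒜 N hN tu ht hmin with h𝔑
  let S := Localization.AtPrime 𝔑
  let k := ResidueField (GrLC.deg0 𝒜)
  let Φ' : S →+* DualNumber k := IsLocalization.lift (M := 𝔑.primeCompl)
    (g := Phi 𝒜 N hN tu ht hmin)
    (fun y => isUnit_Phi_of_notMem 𝒜 N hN tu ht hmin y y.2)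
  have hΦ' : ∀ r, Φ' (algebraMap R S r) = Phi 𝒜 N hN tu ht hmin r := fun r =>
    IsLocalization.lift_eq _ r
  set x : S := algebraMap R S ((tu : R) - 1) with hx
  have hxm : x ∈ maximalIdeal S :=
    (IsLocalization.AtPrime.to_map_mem_maximal_iff S 𝔑 ((tu : R) - 1)).2
      (t_sub_one_mem_NN 𝒜 N hN tu ht hmin)
  have hfst : ∀ y ∈ maximalIdeal S, (Φ' y).fst = 0 := by
    have hle : maximalIdeal S ≤ RingHom.ker ((TrivSqZeroExt.fstHom k k k).toRingHom.comp Φ') := by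
      rw [← Localization.AtPrime.map_eq_maximalIdeal, Ideal.map_le_iff_le_comap]
      intro r hr
      show (Φ' (algebraMap R S r)).fst = 0
      rw [hΦ']
      exact hr
    intro y hy
    exact hle hy
  have hx2 : x ∉ maximalIdeal S ^ 2 := by
    intro hmem
    have hker : maximalIdeal S ^ 2 ≤ RingHom.ker Φ' := by
      rw [pow_two, Ideal.mul_le]
      intro a ha b hb
      show Φ' (a * b) = 0
      rw [map_mul]
      exact dual_mul_eq_zero _ _ (hfst a ha) (hfst b hb)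
    have h0 : Φ' x = 0 := hker hmem
    rw [hx, hΦ', Phi_t_sub_one] at h0
    have := congrArg TrivSqZeroExt.snd h0
    rw [snd_inr, snd_zero] at this
    exact one_ne_zero this
  have hq := (Groth.Agent.Helper8.RLR.quotient_singleton hxm hx2).1
  -- the isomorphism
  let g : S →+* (R ⧸ Ideal.span {(tu : R) - 1}) := IsLocalization.lift (M := 𝔑.primeCompl)
    (g := Ideal.Quotient.mk (Ideal.span {(tu : R) - 1}))
    (fun y => isUnit_mk_of_notMem 𝒜 N hN tu ht hmin y y.2)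
  have hg : ∀ r, g (algebraMap R S r) = Ideal.Quotient.mk _ r := fun r =>
    IsLocalization.lift_eq _ r
  have hsurj : Function.Surjective g := by
    intro c
    obtain ⟨r, rfl⟩ := Ideal.Quotient.mk_surjective c
    exact ⟨algebraMap R S r, hg r⟩
  have hker : RingHom.ker g = Ideal.span {x} := by
    apply le_antisymm
    · intro y hy
      obtain ⟨r, s, rfl⟩ := IsLocalization.exists_mk'_eq 𝔑.primeCompl y
      have h1 : g (IsLocalization.mk' S r s) * g (algebraMap R S s) = g (algebraMap R S r) := by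
        rw [← map_mul, IsLocalization.mk'_spec]
      rw [RingHom.mem_ker] at hy
      rw [hy, zero_mul, hg, eq_comm, Ideal.Quotient.eq_zero_iff_mem] at h1
      obtain ⟨c, hc⟩ := Ideal.mem_span_singleton'.1 h1
      rw [IsLocalization.mk'_eq_mul_mk'_one, ← hc, map_mul]
      refine Ideal.mul_mem_right _ _ (Ideal.mul_mem_left _ _ ?_)
      exact Ideal.mem_span_singleton_self _
    · rw [Ideal.span_le, Set.singleton_subset_iff]
      show g x = 0
      rw [hx, hg, Ideal.Quotient.eq_zero_iff_mem]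
      exact Ideal.mem_span_singleton_self _
  let e : (S ⧸ Ideal.span {x}) ≃+* (R ⧸ Ideal.span {(tu : R) - 1}) :=
    (Ideal.quotEquivOfEq hker.symm).trans (RingHom.quotientKerEquivOfSurjective hsurj)
  exact IsRegularLocalRing.of_ringEquiv e

end Main

end Groth.Agent.Lib.Helper6.GrUnit
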