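import Mathlib
import Groth.Agent.Lib.Helper6.GrUnit.GUb
import Groth.Agent.Lib.Helper8.ABS11
import Groth.Agent.Lib.Helper9.Reg5807

/-!
# ℤ-graded rings with a homogeneous unit `t` of degree `N`: `R[U]/(U^N - t) ≅ (R/(t-1))[T, T⁻¹]`
(helper6, for S14658)
-/

set_option autoImplicit false
set_option linter.unusedSectionVars false
set_option linter.unusedVariables false
set_option linter.unusedSimpArgs false
set_option linter.style.haveILetI false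
set_option linter.overlappingInstances false
set_option maxHeartbeats 800000

namespace Groth.Agent.Lib.Helper6.GrUnit

universe u

open DirectSum IsLocalRing LaurentPolynomial

section Cyc

variable {R : Type u} [CommRing R] (𝒜 : ℤ → AddSubgroup R) [GradedRing 𝒜]

/-- ring homs out of a graded ring agreeing on homogeneous elements are equal -/
lemma ringHom_ext_of_homogeneous {B : Type*} [Semiring B] {f g : R →+* B}
    (h : ∀ (i : ℤ) (x : R), x ∈ 𝒜 i → f x = g x) : f = g := by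
  ext x
  induction x using DirectSum.Decomposition.inductionOn 𝒜 with
  | zero => simp
  | @homogeneous i m => exact h i m m.2
  | add x y hx hy => rw [map_add, map_add, hx, hy]

variable (N : ℕ) (hN : 0 < N) (tu : Rˣ) (ht : (tu : R) ∈ 𝒜 (N : ℤ))

/-- the quotient map `R → R/(t-1)` -/
abbrev piq : R →+* R ⧸ Ideal.span {(tu : R) - 1} := Ideal.Quotient.mk (Ideal.span {(tu : R) - 1})

lemma piq_t : piq tu (tu : R) = 1 := by
  have h : (tu : R) - 1 ∈ Ideal.span {(tu : R) - 1} := Ideal.mem_span_singleton_self _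
  have h2 := Ideal.Quotient.eq_zero_iff_mem.mpr h
  rw [map_sub, map_one, sub_eq_zero] at h2
  exact h2

/-- components of the coaction `R → (R/(t-1))[T, T⁻¹]` -/
noncomputable def G (i : ℤ) : ↥(𝒜 i) →+ (R ⧸ Ideal.span {(tu : R) - 1})[T;T⁻¹] where
  toFun a := C (piq tu (a : R)) * T i
  map_zero' := by simp
  map_add' a b := by
    show C (piq tu ((a : R) + (b : R))) * T i = _
    rw [map_add, map_add, add_mul]

lemma G_apply (i : ℤ) (a : ↥(𝒜 i)) : G 𝒜 tu i a = C (piq tu (a : R)) * T i := rfl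

lemma G_one : G 𝒜 tu 0 (GradedMonoid.GOne.one (A := fun i : ℤ => ↥(𝒜 i))) = 1 := by
  rw [G_apply, SetLike.coe_gOne, map_one, map_one, T_zero, mul_one]

lemma G_mul {i j : ℤ} (ai : ↥(𝒜 i)) (aj : ↥(𝒜 j)) :
    G 𝒜 tu (i + j) (GradedMonoid.GMul.mul (A := fun i : ℤ => ↥(𝒜 i)) ai aj) =
      G 𝒜 tu i ai * G 𝒜 tu j aj := by
  rw [G_apply, G_apply, G_apply, SetLike.coe_gMul, map_mul, map_mul, T_add]
  ring

/-- the coaction `R → (R/(t-1))[T, T⁻¹]`, `x ↦ (x mod (t - 1)) T^i` for `x` of degree `i` -/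
noncomputable def psi : R →+* (R ⧸ Ideal.span {(tu : R) - 1})[T;T⁻¹] :=
  (DirectSum.toSemiring (G 𝒜 tu) (G_one 𝒜 tu) (fun ai aj => G_mul 𝒜 tu ai aj)).comp
    (DirectSum.decomposeRingEquiv 𝒜).toRingHom

lemma psi_of_mem {i : ℤ} {x : R} (hx : x ∈ 𝒜 i) : psi 𝒜 tu x = C (piq tu x) * T i := by
  unfold psi
  rw [RingHom.comp_apply]
  show DirectSum.toSemiring _ _ _ (decompose 𝒜 x) = _
  rw [decompose_of_mem 𝒜 hx, DirectSum.toSemiring_of]
  rfl

open Polynomial in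
/-- the polynomial `U^N - t` -/
noncomputable abbrev pol : R[X] := Polynomial.X ^ N - Polynomial.C (tu : R)

include ht in
lemma eval₂_psi : (pol N tu).eval₂ (psi 𝒜 tu) (T 1) = 0 := by
  rw [pol, Polynomial.eval₂_sub, Polynomial.eval₂_pow, Polynomial.eval₂_X, Polynomial.eval₂_C,
    psi_of_mem 𝒜 tu ht, piq_t, map_one, one_mul, T_pow, mul_one, sub_self]

/-- the map `R[U]/(U^N - t) → (R/(t-1))[T, T⁻¹]` -/
noncomputable def Psi : AdjoinRoot (pol N tu) →+* (R ⧸ Ideal.span {(tu : R) - 1})[T;T⁻¹] :=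
  AdjoinRoot.lift (psi 𝒜 tu) (T 1) (eval₂_psi 𝒜 N tu ht)

lemma Psi_of (x : R) : Psi 𝒜 N tu ht (AdjoinRoot.of (pol N tu) x) = psi 𝒜 tu x :=
  AdjoinRoot.lift_of _

lemma Psi_root : Psi 𝒜 N tu ht (AdjoinRoot.root (pol N tu)) = T 1 :=
  AdjoinRoot.lift_root _

lemma root_pow : (AdjoinRoot.root (pol N tu)) ^ N = AdjoinRoot.of (pol N tu) (tu : R) := by
  have h := AdjoinRoot.eval₂_root (pol N tu)
  rw [pol, Polynomial.eval₂_sub, Polynomial.eval₂_pow, Polynomial.eval₂_X, Polynomial.eval₂_C,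
    sub_eq_zero] at h
  exact h

include hN in
lemma root_mul_inv : AdjoinRoot.root (pol N tu) *
    ((AdjoinRoot.root (pol N tu)) ^ (N - 1) * AdjoinRoot.of (pol N tu) ((tu⁻¹ : Rˣ) : R)) = 1 := by
  rw [← mul_assoc, ← pow_succ', Nat.sub_add_cancel hN, root_pow, ← map_mul, Units.mul_inv, map_one]

/-- the root `U` as a unit -/
noncomputable def Uu : (AdjoinRoot (pol N tu))ˣ :=
  ⟨AdjoinRoot.root (pol N tu),
    (AdjoinRoot.root (pol N tu)) ^ (N - 1) * AdjoinRoot.of (pol N tu) ((tu⁻¹ : Rˣ) : R),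
    root_mul_inv N hN tu, by rw [mul_comm]; exact root_mul_inv N hN tu⟩

lemma Uu_val : ((Uu N hN tu : (AdjoinRoot (pol N tu))ˣ) : AdjoinRoot (pol N tu)) =
    AdjoinRoot.root (pol N tu) := rfl

lemma Uu_zpow_N : (((Uu N hN tu) ^ (N : ℤ) : (AdjoinRoot (pol N tu))ˣ) : AdjoinRoot (pol N tu)) =
    AdjoinRoot.of (pol N tu) (tu : R) := by
  rw [zpow_natCast, Units.val_pow_eq_pow_val, Uu_val, root_pow]

/-- components of `R → R[U]/(U^N - t)`, `x ↦ x U^{-i}` -/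
noncomputable def Hc (i : ℤ) : ↥(𝒜 i) →+ AdjoinRoot (pol N tu) where
  toFun a := AdjoinRoot.of (pol N tu) (a : R) * (((Uu N hN tu) ^ (-i) : (AdjoinRoot (pol N tu))ˣ) :
    AdjoinRoot (pol N tu))
  map_zero' := by simp
  map_add' a b := by
    show AdjoinRoot.of (pol N tu) ((a : R) + (b : R)) * _ = _
    rw [map_add, add_mul]

lemma Hc_apply (i : ℤ) (a : ↥(𝒜 i)) : Hc 𝒜 N hN tu i a =
    AdjoinRoot.of (pol N tu) (a : R) * (((Uu N hN tu) ^ (-i) : (AdjoinRoot (pol N tu))ˣ) :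
      AdjoinRoot (pol N tu)) := rfl

lemma Hc_one : Hc 𝒜 N hN tu 0 (GradedMonoid.GOne.one (A := fun i : ℤ => ↥(𝒜 i))) = 1 := by
  rw [Hc_apply, SetLike.coe_gOne, map_one, neg_zero, zpow_zero, Units.val_one, mul_one]

lemma Hc_mul {i j : ℤ} (ai : ↥(𝒜 i)) (aj : ↥(𝒜 j)) :
    Hc 𝒜 N hN tu (i + j) (GradedMonoid.GMul.mul (A := fun i : ℤ => ↥(𝒜 i)) ai aj) =
      Hc 𝒜 N hN tu i ai * Hc 𝒜 N hN tu j aj := by
  rw [Hc_apply, Hc_apply, Hc_apply, SetLike.coe_gMul, map_mul, neg_add, zpow_add, Units.val_mul]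
  ring

/-- the map `R → R[U]/(U^N - t)`, `x ↦ x U^{-i}` for `x` of degree `i` -/
noncomputable def theta0 : R →+* AdjoinRoot (pol N tu) :=
  (DirectSum.toSemiring (Hc 𝒜 N hN tu) (Hc_one 𝒜 N hN tu)
    (fun ai aj => Hc_mul 𝒜 N hN tu ai aj)).comp (DirectSum.decomposeRingEquiv 𝒜).toRingHom

lemma theta0_of_mem {i : ℤ} {x : R} (hx : x ∈ 𝒜 i) : theta0 𝒜 N hN tu x =
    AdjoinRoot.of (pol N tu) x * (((Uu N hN tu) ^ (-i) : (AdjoinRoot (pol N tu))ˣ) :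
      AdjoinRoot (pol N tu)) := by
  unfold theta0
  rw [RingHom.comp_apply]
  show DirectSum.toSemiring _ _ _ (decompose 𝒜 x) = _
  rw [decompose_of_mem 𝒜 hx, DirectSum.toSemiring_of]
  rfl

include ht in
lemma theta0_t : theta0 𝒜 N hN tu (tu : R) = 1 := by
  rw [theta0_of_mem 𝒜 N hN tu ht, ← Uu_zpow_N N hN tu, ← Units.val_mul, ← zpow_add,
    add_neg_cancel, zpow_zero, Units.val_one]

include ht in
lemma span_le_ker_theta0 : Ideal.span {(tu : R) - 1} ≤ RingHom.ker (theta0 𝒜 N hN tu) := by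
  rw [Ideal.span_singleton_le_iff_mem, RingHom.mem_ker, map_sub, map_one, theta0_t 𝒜 N hN tu ht,
    sub_self]

/-- the induced map `R/(t-1) → R[U]/(U^N - t)` -/
noncomputable def theta : (R ⧸ Ideal.span {(tu : R) - 1}) →+* AdjoinRoot (pol N tu) :=
  Ideal.Quotient.lift (Ideal.span {(tu : R) - 1}) (theta0 𝒜 N hN tu)
    (fun a ha => span_le_ker_theta0 𝒜 N hN tu ht ha)

lemma theta_mk (x : R) : theta 𝒜 N hN tu ht (piq tu x) = theta0 𝒜 N hN tu x :=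
  Ideal.Quotient.lift_mk _ _ _

/-- the map `(R/(t-1))[T, T⁻¹] → R[U]/(U^N - t)` -/
noncomputable def Theta : (R ⧸ Ideal.span {(tu : R) - 1})[T;T⁻¹] →+* AdjoinRoot (pol N tu) :=
  LaurentPolynomial.eval₂ (theta 𝒜 N hN tu ht) (Uu N hN tu)

lemma Theta_C_mul_T (x : R) (n : ℤ) : Theta 𝒜 N hN tu ht (C (piq tu x) * T n) =
    theta0 𝒜 N hN tu x * (((Uu N hN tu) ^ n : (AdjoinRoot (pol N tu))ˣ) :
      AdjoinRoot (pol N tu)) := by
  unfold Theta
  rw [LaurentPolynomial.eval₂_C_mul_T, theta_mk]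

lemma Theta_comp_Psi : (Theta 𝒜 N hN tu ht).comp (Psi 𝒜 N tu ht) = RingHom.id _ := by
  apply AdjoinRoot.ringHom_ext
  · apply ringHom_ext_of_homogeneous 𝒜
    intro i x hx
    show Theta 𝒜 N hN tu ht (Psi 𝒜 N tu ht (AdjoinRoot.of (pol N tu) x)) =
      AdjoinRoot.of (pol N tu) x
    rw [Psi_of, psi_of_mem 𝒜 tu hx, Theta_C_mul_T, theta0_of_mem 𝒜 N hN tu hx, mul_assoc,
      ← Units.val_mul, ← zpow_add, neg_add_cancel, zpow_zero, Units.val_one, mul_one]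
  · show Theta 𝒜 N hN tu ht (Psi 𝒜 N tu ht (AdjoinRoot.root (pol N tu))) =
      AdjoinRoot.root (pol N tu)
    rw [Psi_root]
    unfold Theta
    rw [LaurentPolynomial.eval₂_T, zpow_one, Uu_val]

lemma Psi_Uu_zpow (n : ℤ) : Psi 𝒜 N tu ht (((Uu N hN tu) ^ n : (AdjoinRoot (pol N tu))ˣ) :
    AdjoinRoot (pol N tu)) = T n := by
  have hnat : ∀ k : ℕ, Psi 𝒜 N tu ht (((Uu N hN tu) ^ (k : ℤ) : (AdjoinRoot (pol N tu))ˣ) :
      AdjoinRoot (pol N tu)) = T (k : ℤ) := by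
    intro k
    rw [zpow_natCast, Units.val_pow_eq_pow_val, Uu_val, map_pow, Psi_root, T_pow, mul_one]
  by_cases hn : 0 ≤ n
  · lift n to ℕ using hn
    exact hnat n
  · obtain ⟨m, rfl⟩ := Int.exists_eq_neg_ofNat (not_le.mp hn).le
    have h1 : Psi 𝒜 N tu ht (((Uu N hN tu) ^ (-(m : ℤ)) : (AdjoinRoot (pol N tu))ˣ) :
        AdjoinRoot (pol N tu)) * T (m : ℤ) = 1 := by
      rw [← hnat m, ← map_mul, ← Units.val_mul, ← zpow_add, neg_add_cancel, zpow_zero,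
        Units.val_one, map_one]
    calc Psi 𝒜 N tu ht (((Uu N hN tu) ^ (-(m : ℤ)) : (AdjoinRoot (pol N tu))ˣ) :
        AdjoinRoot (pol N tu))
        = Psi 𝒜 N tu ht (((Uu N hN tu) ^ (-(m : ℤ)) : (AdjoinRoot (pol N tu))ˣ) :
            AdjoinRoot (pol N tu)) * (T (m : ℤ) * T (-(m : ℤ))) := by
          rw [← T_add, add_neg_cancel, T_zero, mul_one]
      _ = T (-(m : ℤ)) := by rw [← mul_assoc, h1, one_mul]

lemma Psi_comp_theta0 : (Psi 𝒜 N tu ht).comp (theta0 𝒜 N hN tu) =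
    (C : _ →+* (R ⧸ Ideal.span {(tu : R) - 1})[T;T⁻¹]).comp (piq tu) := by
  apply ringHom_ext_of_homogeneous 𝒜
  intro i x hx
  show Psi 𝒜 N tu ht (theta0 𝒜 N hN tu x) = C (piq tu x)
  rw [theta0_of_mem 𝒜 N hN tu hx, map_mul, Psi_of, psi_of_mem 𝒜 tu hx, Psi_Uu_zpow, mul_assoc,
    ← T_add, add_neg_cancel, T_zero, mul_one]

lemma Psi_comp_Theta : (Psi 𝒜 N tu ht).comp (Theta 𝒜 N hN tu ht) = RingHom.id _ := by
  apply RingHom.ext
  intro p
  induction p using LaurentPolynomial.induction_on' with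
  | add p q hp hq => rw [map_add, map_add, hp, hq]
  | C_mul_T n a =>
    obtain ⟨x, rfl⟩ := Ideal.Quotient.mk_surjective a
    show Psi 𝒜 N tu ht (Theta 𝒜 N hN tu ht (C (piq tu x) * T n)) = C (piq tu x) * T n
    rw [Theta_C_mul_T, map_mul, Psi_Uu_zpow]
    have h := congrArg (fun f => f x) (Psi_comp_theta0 𝒜 N hN tu ht)
    simp only [RingHom.comp_apply] at h
    rw [h]

/-- `R[U]/(U^N - t) ≅ (R/(t-1))[T, T⁻¹]` -/
noncomputable def cycEquiv :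
    AdjoinRoot (pol N tu) ≃+* (R ⧸ Ideal.span {(tu : R) - 1})[T;T⁻¹] :=
  RingEquiv.ofRingHom (Psi 𝒜 N tu ht) (Theta 𝒜 N hN tu ht) (Psi_comp_Theta 𝒜 N hN tu ht)
    (Theta_comp_Psi 𝒜 N hN tu ht)

include 𝒜 hN ht in
/-- if `R/(t-1)` is a regular local ring then `R[U]/(U^N - t)` is a regular ring -/
theorem isRegularRing_adjoinRoot
    (hC : IsRegularLocalRing (R ⧸ Ideal.span {(tu : R) - 1})) :
    IsRegularRing (AdjoinRoot (pol N tu)) := by
  haveI : IsNoetherianRing (R ⧸ Ideal.span {(tu : R) - 1}) := inferInstance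
  haveI : IsRegularRing (R ⧸ Ideal.span {(tu : R) - 1}) :=
    isRegularRing_iff.mpr (fun p hp =>
      Groth.Agent.Helper8.ABS.isRegularLocalRing_localization _ p)
  haveI : IsRegularRing (R ⧸ Ideal.span {(tu : R) - 1})[T;T⁻¹] :=
    Groth.Agent.Helper9.Reg5807.isRegularRing_localization
      (R := Polynomial (R ⧸ Ideal.span {(tu : R) - 1}))
      (Submonoid.powers (Polynomial.X : Polynomial (R ⧸ Ideal.span {(tu : R) - 1})))
      ((R ⧸ Ideal.span {(tu : R) - 1})[T;T⁻¹])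
  exact IsRegularRing.of_ringEquiv (cycEquiv 𝒜 N hN tu ht).symm

end Cyc

section Final

variable {R : Type u} [CommRing R] (𝒜 : ℤ → AddSubgroup R) [GradedRing 𝒜]
  [IsLocalRing (GrLC.deg0 𝒜)]

/-- the hypothesis `R_i R_j ⊆ m t` excludes homogeneous units in degrees `0 < n < N` -/
lemma hmin_of_hm (N : ℕ) (tu : Rˣ) (ht : (tu : R) ∈ 𝒜 (N : ℤ))
    (hm : ∀ (i j : ℤ), 0 < i → 0 < j → i + j = (N : ℤ) → ∀ a ∈ 𝒜 i, ∀ b ∈ 𝒜 j,
      ∃ c : GrLC.deg0 𝒜, c ∈ IsLocalRing.maximalIdeal (GrLC.deg0 𝒜) ∧ a * b = (c : R) * (tu : R)) :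
    ∀ (n : ℤ), 0 < n → n < (N : ℤ) → ∀ s ∈ 𝒜 n, ¬ IsUnit s := by
  intro n hn0 hnN s hs hsu
  obtain ⟨su, rfl⟩ := hsu
  have hinv : ((su⁻¹ : Rˣ) : R) ∈ 𝒜 (-n) := inv_mem 𝒜 n su hs
  have hb : (tu : R) * ((su⁻¹ : Rˣ) : R) ∈ 𝒜 ((N : ℤ) + -n) := SetLike.GradedMul.mul_mem ht hinv
  obtain ⟨c, hc, hcs⟩ := hm n ((N : ℤ) + -n) hn0 (by omega) (by ring) (su : R) hs _ hb
  have h1 : (su : R) * ((tu : R) * ((su⁻¹ : Rˣ) : R)) = (tu : R) := by
    rw [mul_comm (tu : R), ← mul_assoc, Units.mul_inv, one_mul]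
  rw [h1] at hcs
  have h2 : (c : R) = 1 := by
    have h3 : (c : R) * (tu : R) * ((tu⁻¹ : Rˣ) : R) = (tu : R) * ((tu⁻¹ : Rˣ) : R) := by
      rw [← hcs]
    rw [mul_assoc, Units.mul_inv, mul_one] at h3
    exact h3
  have h4 : c = 1 := Subtype.ext h2
  rw [h4] at hc
  exact (Ideal.ne_top_iff_one _).mp (IsLocalRing.maximalIdeal.isMaximal _).ne_top hc

theorem isRegularRing_adjoinRoot_of_hm [IsNoetherianRing R]
    (hreg : ∀ (p : Ideal R) [p.IsPrime], IsRegularLocalRing (Localization.AtPrime p))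
    (N : ℕ) (hN : 0 < N) (tu : Rˣ) (ht : (tu : R) ∈ 𝒜 (N : ℤ))
    (hm : ∀ (i j : ℤ), 0 < i → 0 < j → i + j = (N : ℤ) → ∀ a ∈ 𝒜 i, ∀ b ∈ 𝒜 j,
      ∃ c : GrLC.deg0 𝒜, c ∈ IsLocalRing.maximalIdeal (GrLC.deg0 𝒜) ∧ a * b = (c : R) * (tu : R)) :
    IsRegularRing (AdjoinRoot (pol N tu)) := by
  have hmin := hmin_of_hm 𝒜 N tu ht hm
  have hC := isRegularLocalRing_quotient 𝒜 N hN tu ht hmin (hreg _)
  exact isRegularRing_adjoinRoot 𝒜 N hN tu ht hC

end Final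

end Groth.Agent.Lib.Helper6.GrUnit
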